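import Groth.Agent.ComodLib.Slices
import Groth.Prelude.Def_HopfRep
import Mathlib

/-! # Subcomodules of cofree comodules over a ring -/

set_option autoImplicit false

universe u

open TensorProduct

namespace CosubLib

variable {R : Type u} [CommRing R] {C : Type u} [AddCommGroup C] [Module R C] [Coalgebra R C]

section Sub

variable {V : Type u} [AddCommGroup V] [Module R V] [HopfRep.Comod R C V] [Module.Flat R C]

/-- The comodule structure on a subcomodule. -/
theorem exists_subComod {S : Submodule R V} (hS : HopfRep.IsSubcomod (k := R) (A := C) S) :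
    ∃ _ : HopfRep.Comod R C S, S.subtype.rTensor C ∘ₗ HopfRep.Comod.coact =
      HopfRep.Comod.coact (k := R) (A := C) ∘ₗ S.subtype := by
  have hinj : ∀ (D : Type u) [AddCommGroup D] [Module R D] [Module.Flat R D], Function.Injective (S.subtype.rTensor D) :=
    fun D _ _ _ => Module.Flat.rTensor_preserves_injective_linearMap _ S.injective_subtype
  let e := LinearEquiv.ofInjective (S.subtype.rTensor C) (hinj C)
  let c : S →ₗ[R] S ⊗[R] C := e.symm.toLinearMap ∘ₗ
    LinearMap.codRestrict _ (HopfRep.Comod.coact (k := R) (A := C) ∘ₗ S.subtype) (fun s => hS s s.2)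
  have hc : ∀ s, S.subtype.rTensor C (c s) = HopfRep.Comod.coact (k := R) (A := C) (s : V) := fun s =>
    congrArg Subtype.val (e.apply_symm_apply ⟨_, hS s s.2⟩)
  have h := LinearMap.ext (f := S.subtype.rTensor C ∘ₗ c) (g := HopfRep.Comod.coact ∘ₗ S.subtype) hc
  refine ⟨⟨c, ?_, ?_⟩, h⟩
  · refine LinearMap.ext fun s => hinj (C ⊗[R] C) ?_
    have key : ∀ y : (S ⊗[R] C) ⊗[R] C, S.subtype.rTensor (C ⊗[R] C)
        (TensorProduct.assoc R S C C y) =
          TensorProduct.assoc R V C C ((S.subtype.rTensor C).rTensor C y) := by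
      intro y
      induction y with
      | zero => simp
      | tmul z a =>
        induction z with
        | zero => simp [TensorProduct.zero_tmul]
        | tmul x b => simp
        | add z z' hz hz' => simp only [add_tmul, map_add, hz, hz']
      | add y y' hy hy' => simp [hy, hy']
    simp only [LinearMap.comp_apply, LinearEquiv.coe_coe]
    rw [key, ← LinearMap.rTensor_comp_apply C, h, LinearMap.rTensor_comp_apply, hc]
    have hco := LinearMap.congr_fun (HopfRep.Comod.coassoc (k := R) (A := C) (V := V)) (s : V)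
    simp only [LinearMap.comp_apply, LinearEquiv.coe_coe] at hco
    rw [hco, ← LinearMap.comp_apply (S.subtype.rTensor (C ⊗[R] C)), LinearMap.rTensor_comp_lTensor,
      ← LinearMap.lTensor_comp_rTensor, LinearMap.comp_apply, hc]
  · refine LinearMap.ext fun s => hinj R ?_
    have hco := LinearMap.congr_fun (HopfRep.Comod.counit_comp (k := R) (A := C) (V := V)) (s : V)
    simp only [LinearMap.comp_apply] at hco ⊢
    rw [← LinearMap.comp_apply (S.subtype.rTensor R), LinearMap.rTensor_comp_lTensor,
      ← LinearMap.lTensor_comp_rTensor, LinearMap.comp_apply, hc, hco]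
    rfl

end Sub

/-- The cofree comodule `M ⊗ C`. -/
@[reducible] noncomputable def cofree (M : Type u) [AddCommGroup M] [Module R M] : HopfRep.Comod R C (M ⊗[R] C) where
  coact := (TensorProduct.assoc R M C C).symm.toLinearMap ∘ₗ (CoalgebraStruct.comul (R := R) (A := C)).lTensor M
  coassoc := by
    refine TensorProduct.ext' fun m c => ?_
    have hco := LinearMap.congr_fun (Coalgebra.coassoc (R := R) (A := C)) c
    simp only [LinearMap.comp_apply, LinearEquiv.coe_coe] at hco
    simp only [LinearMap.comp_apply, LinearEquiv.coe_coe, LinearMap.lTensor_tmul]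
    have key : ∀ z : C ⊗[R] C, TensorProduct.assoc R (M ⊗[R] C) C C
        (((TensorProduct.assoc R M C C).symm.toLinearMap ∘ₗ (CoalgebraStruct.comul (R := R) (A := C)).lTensor M).rTensor C
          ((TensorProduct.assoc R M C C).symm (m ⊗ₜ z))) =
        (TensorProduct.assoc R M C (C ⊗[R] C)).symm (m ⊗ₜ TensorProduct.assoc R C C C
          ((CoalgebraStruct.comul (R := R) (A := C)).rTensor C z)) := by
      intro z
      induction z with
      | zero => simp
      | add x y hx hy => simp only [tmul_add, map_add, hx, hy]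
      | tmul a b =>
        simp only [TensorProduct.assoc_symm_tmul, LinearMap.rTensor_tmul, LinearMap.comp_apply, LinearMap.lTensor_tmul,
          LinearEquiv.coe_coe]
        generalize CoalgebraStruct.comul (R := R) a = w
        induction w with
        | zero => simp [TensorProduct.zero_tmul]
        | add x y hx hy => simp only [TensorProduct.add_tmul, tmul_add, map_add, hx, hy]
        | tmul p q => simp
    rw [key, hco]
    generalize CoalgebraStruct.comul (R := R) c = z
    induction z with
    | zero => simp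
    | add x y hx hy => simp only [tmul_add, map_add, hx, hy]
    | tmul a b => simp
  counit_comp := by
    refine TensorProduct.ext' fun m c => ?_
    have hco := Coalgebra.lTensor_counit_comul (R := R) c
    simp only [LinearMap.comp_apply, LinearEquiv.coe_coe, LinearMap.lTensor_tmul]
    have key : ∀ z : C ⊗[R] C, (CoalgebraStruct.counit (R := R) (A := C)).lTensor (M ⊗[R] C)
        ((TensorProduct.assoc R M C C).symm (m ⊗ₜ z)) =
        (TensorProduct.assoc R M C R).symm (m ⊗ₜ (CoalgebraStruct.counit (R := R) (A := C)).lTensor C z) := by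
      intro z
      induction z with
      | zero => simp
      | add x y hx hy => simp only [tmul_add, map_add, hx, hy]
      | tmul a b => simp
    rw [key, hco]
    rfl

theorem slice_counit_coact {V : Type u} [AddCommGroup V] [Module R V] [HopfRep.Comod R C V] (v : V) :
    ComodLib.slice (CoalgebraStruct.counit (R := R) (A := C)) (HopfRep.Comod.coact (k := R) (A := C) v) = v := by
  have h := LinearMap.congr_fun (HopfRep.Comod.counit_comp (k := R) (A := C) (V := V)) v
  rw [LinearMap.comp_apply] at h
  rw [ComodLib.slice, LinearMap.comp_apply, h]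
  simp

/-- Tensoring the kernel of a map with a flat module. -/
theorem mem_range_rTensor_ker [Module.Flat R C] {X Y : Type u} [AddCommGroup X] [Module R X] [AddCommGroup Y] [Module R Y]
    (g : X →ₗ[R] Y) (z : X ⊗[R] C) (h : g.rTensor C z = 0) :
    z ∈ LinearMap.range ((LinearMap.ker g).subtype.rTensor C) := by
  have hex : Function.Exact (LinearMap.ker g).subtype g := LinearMap.exact_iff.2 (Submodule.range_subtype _).symm
  exact ((Module.Flat.rTensor_exact (R := R) C hex) z).1 h

/-- The preimage of a comodule in a cofree comodule covering it. -/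
theorem exists_cover [Module.Flat R C] (F : Type u) [AddCommGroup F] [Module R F] [HopfRep.Comod R C F] [Module.Finite R F] :
    ∃ (n : ℕ), letI := cofree (R := R) (C := C) (Fin n → R)
      ∃ (W M : Submodule R ((Fin n → R) ⊗[R] C)) (φ : ((Fin n → R) ⊗[R] C) →ₗ[R] F),
        HopfRep.IsSubcomod (k := R) (A := C) W ∧ M.FG ∧ M ≤ W ∧ Submodule.map φ M = ⊤ ∧
        (∀ x ∈ W, HopfRep.Comod.coact (k := R) (A := C) (φ x) = φ.rTensor C (HopfRep.Comod.coact (k := R) (A := C) x)) ∧
        ((∀ a ∈ nonZeroDivisors R, IsSMulRegular F a) → ∀ a ∈ nonZeroDivisors R, ∀ x, a • x ∈ W → x ∈ W) := by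
  classical
  obtain ⟨n, π, hπ⟩ := Module.Finite.exists_fin' R F
  refine ⟨n, ?_⟩
  let _ := cofree (R := R) (C := C) (Fin n → R)
  let θ := π.rTensor C
  let ρ := HopfRep.Comod.coact (k := R) (A := C) (V := F)
  let W := LinearMap.ker ((LinearMap.range ρ).mkQ ∘ₗ θ)
  have hW : ∀ x, x ∈ W ↔ ∃ v, ρ v = θ x := fun x => Submodule.Quotient.mk_eq_zero _
  let φ : ((Fin n → R) ⊗[R] C) →ₗ[R] F := ComodLib.slice (CoalgebraStruct.counit (R := R) (A := C)) ∘ₗ θ
  have hφ : ∀ v x, ρ v = θ x → φ x = v := fun v x h => by
    show ComodLib.slice _ (θ x) = v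
    rw [← h]; exact slice_counit_coact v
  have hθ : ∀ x, θ.rTensor C (HopfRep.Comod.coact (k := R) (A := C) x) =
      (TensorProduct.assoc R F C C).symm ((CoalgebraStruct.comul (R := R) (A := C)).lTensor F (θ x)) := by
    intro x
    induction x with
    | zero => simp
    | add x y hx hy => simp only [map_add, hx, hy]
    | tmul m c =>
      show θ.rTensor C ((TensorProduct.assoc R _ C C).symm (m ⊗ₜ CoalgebraStruct.comul c)) = _
      simp only [θ, LinearMap.rTensor_tmul, LinearMap.lTensor_tmul]
      generalize CoalgebraStruct.comul (R := R) c = z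
      induction z with
      | zero => simp
      | add x y hx hy => simp only [tmul_add, map_add, hx, hy]
      | tmul a b => simp
  have hθ' : ∀ v x, ρ v = θ x → θ.rTensor C (HopfRep.Comod.coact (k := R) (A := C) x) = ρ.rTensor C (ρ v) := by
    intro v x h
    rw [hθ, ← h, LinearEquiv.symm_apply_eq]
    exact (LinearMap.congr_fun (HopfRep.Comod.coassoc (k := R) (A := C) (V := F)) v).symm
  obtain ⟨gens, hgens⟩ := (Module.Finite.fg_top : (⊤ : Submodule R F).FG)
  choose lift hlift using fun v : F => LinearMap.rTensor_surjective C hπ (ρ v)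
  refine ⟨W, Submodule.span R (gens.image lift : Finset _), φ, fun x hx => ?_, ⟨_, rfl⟩, ?_, ?_, ?_, ?_⟩
  · obtain ⟨v, hv⟩ := (hW x).1 hx
    refine mem_range_rTensor_ker ((LinearMap.range ρ).mkQ ∘ₗ θ) _ ?_
    rw [LinearMap.rTensor_comp_apply, hθ' v x hv, ← LinearMap.rTensor_comp_apply]
    have : (LinearMap.range ρ).mkQ ∘ₗ ρ = 0 := LinearMap.ext fun y => (Submodule.Quotient.mk_eq_zero _).2 ⟨y, rfl⟩
    rw [this, LinearMap.rTensor_zero, LinearMap.zero_apply]
  · refine Submodule.span_le.2 fun x hx => ?_
    obtain ⟨v, -, rfl⟩ := Finset.mem_image.1 hx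
    exact (hW _).2 ⟨v, (hlift v).symm⟩
  · rw [eq_top_iff, ← hgens, Submodule.span_le]
    exact fun v hv => ⟨lift v, Submodule.subset_span (Finset.mem_image_of_mem _ hv), hφ _ _ (hlift v).symm⟩
  · intro x hx
    obtain ⟨v, hv⟩ := (hW x).1 hx
    rw [hφ v x hv]
    show ρ v = (ComodLib.slice _ ∘ₗ θ).rTensor C _
    rw [LinearMap.rTensor_comp_apply, hθ' v x hv, ← LinearMap.rTensor_comp_apply]
    have : ComodLib.slice (CoalgebraStruct.counit (R := R) (A := C)) ∘ₗ ρ = LinearMap.id := LinearMap.ext slice_counit_coact
    rw [this, LinearMap.rTensor_id, LinearMap.id_apply]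
  · intro htf a ha x hx
    obtain ⟨v, hv⟩ := (hW _).1 hx
    refine (hW x).2 ⟨φ x, ?_⟩
    have hinj : Function.Injective (LinearMap.rTensor C (a • (LinearMap.id : F →ₗ[R] F))) :=
      Module.Flat.rTensor_preserves_injective_linearMap _ (htf a ha)
    refine hinj ?_
    rw [LinearMap.rTensor_smul, LinearMap.smul_apply, LinearMap.smul_apply, LinearMap.rTensor_id, LinearMap.id_apply,
      LinearMap.id_apply, ← map_smul, ← map_smul, hφ v _ hv, hv, map_smul]

end CosubLib
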