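import Groth.Agent.CosubLib.Basic
import Groth.Agent.TwoTermLib.GlDim
import Groth.Agent.HopfFFLib.Nilradical
import Mathlib

/-! # Saturated submodules of projective modules over regular rings of dimension two -/

set_option autoImplicit false

universe u

open TensorProduct CategoryTheory

namespace CosubLib

variable {R : Type u} [CommRing R]

/-- Functionals on a torsion-free finite module over a reduced Noetherian ring separate points. -/
theorem exists_dual_ne [IsNoetherianRing R] [IsReduced R] {Q : Type u} [AddCommGroup Q] [Module R Q] [Module.Finite R Q]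
    (htf : ∀ a ∈ nonZeroDivisors R, IsSMulRegular Q a) {x : Q} (hx : x ≠ 0) : ∃ f : Q →ₗ[R] R, f x ≠ 0 := by
  classical
  obtain ⟨P, hP, hle⟩ := exists_le_isAssociatedPrime_of_isNoetherianRing R x hx
  obtain ⟨hPp, y, hy⟩ := isAssociatedPrime_iff.1 hP
  haveI := hPp
  have hy0 : y ≠ 0 := fun h => hPp.ne_top ((Ideal.eq_top_iff_one _).2 (by
    rw [hy, Submodule.mem_colon_singleton, h, smul_zero]; exact zero_mem _))
  have hPsub : (P : Set R) ⊆ ⋃ p ∈ (⊥ : Ideal R).minimalPrimes, p := by
    rw [Ideal.iUnion_minimalPrimes]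
    intro a ha
    have hnd : a ∉ nonZeroDivisors R := fun hnd => hy0 (htf a hnd (by
      rw [SetLike.mem_coe, hy, Submodule.mem_colon_singleton, Submodule.mem_bot] at ha
      exact ha.trans (smul_zero a).symm))
    rw [mem_nonZeroDivisors_iff_right] at hnd
    push_neg at hnd
    obtain ⟨z, hz, hz0⟩ := hnd
    refine ⟨z, fun h => hz0 ?_, ?_⟩
    · exact (show IsNilpotent z from h).eq_zero
    · rw [mul_comm, hz]; exact zero_mem _
  have hfin := (⊥ : Ideal R).finite_minimalPrimes_of_isNoetherianRing
  obtain ⟨p, hp, hPp'⟩ : ∃ p ∈ (⊥ : Ideal R).minimalPrimes, P ≤ p := by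
    have := (Ideal.subset_union_prime_finite hfin ⊥ ⊥ (fun i hi _ _ => hi.1.1) (I := P)).1 (by simpa using hPsub)
    exact this
  have hPmin : P ∈ (⊥ : Ideal R).minimalPrimes := le_antisymm hPp' (hp.2 ⟨hPp, bot_le⟩ hPp') ▸ hp
  let S := P.primeCompl
  have hx' : LocalizedModule.mkLinearMap S Q x ≠ 0 := fun h => by
    obtain ⟨s, hs⟩ := (IsLocalizedModule.eq_zero_iff S (LocalizedModule.mkLinearMap S Q)).1 h
    exact s.2 (hle (by rw [Submodule.mem_colon_singleton, Submodule.mem_bot]; exact hs))
  have hfld : IsField (Localization.AtPrime P) := by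
    haveI : Ring.KrullDimLE 0 (Localization.AtPrime P) := by
      rw [Ring.krullDimLE_iff, IsLocalization.AtPrime.ringKrullDim_eq_height P,
        show P.height = 0 from Ideal.height_eq_zero_iff.2 hPmin]
      rfl
    haveI := isArtinianRing_iff_krullDimLE_zero.2 this
    exact IsArtinianRing.isField_of_isReduced_of_isLocalRing _
  letI := hfld.toField
  haveI : Module.Free (Localization.AtPrime P) (LocalizedModule S Q) := Module.Free.of_divisionRing _ _
  obtain ⟨ψ, hψ⟩ := Module.Projective.exists_dual_ne_zero (Localization.AtPrime P) hx'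
  haveI : Module.FinitePresentation R Q := Module.finitePresentation_of_finite R Q
  obtain ⟨f, s, hf⟩ := Module.FinitePresentation.exists_lift_of_isLocalizedModule S
    (Algebra.linearMap R (Localization.AtPrime P)) ((ψ.restrictScalars R) ∘ₗ LocalizedModule.mkLinearMap S Q)
  refine ⟨f, fun h0 => hψ ?_⟩
  have h1 := LinearMap.congr_fun hf x
  simp only [LinearMap.comp_apply, Algebra.linearMap_apply, h0, map_zero, LinearMap.smul_apply,
    LinearMap.restrictScalars_apply] at h1
  have hu : IsUnit (algebraMap R (Localization.AtPrime P) (s : R)) := IsLocalization.map_units _ s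
  rw [Submonoid.smul_def, Algebra.smul_def] at h1
  exact hu.mul_right_eq_zero.1 h1.symm

/-- A torsion-free finite module over a reduced Noetherian ring embeds in a finite free module. -/
theorem exists_injective_free [IsNoetherianRing R] [IsReduced R] (Q : Type u) [AddCommGroup Q] [Module R Q]
    [Module.Finite R Q] (htf : ∀ a ∈ nonZeroDivisors R, IsSMulRegular Q a) :
    ∃ (m : ℕ) (ι : Q →ₗ[R] (Fin m → R)), Function.Injective ι := by
  haveI : Module.FinitePresentation R Q := Module.finitePresentation_of_finite R Q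
  obtain ⟨m, g, hg⟩ := Module.Finite.exists_fin' R (Module.Dual R Q)
  refine ⟨m, LinearMap.pi fun i => g (Pi.single i 1), (injective_iff_map_eq_zero _).2 fun x hx => ?_⟩
  by_contra hne
  obtain ⟨f, hf⟩ := exists_dual_ne htf hne
  obtain ⟨c, rfl⟩ := hg f
  refine hf ?_
  rw [show c = ∑ i, c i • (Pi.single i 1 : Fin m → R) from pi_eq_sum_univ' c, map_sum, LinearMap.sum_apply]
  refine Finset.sum_eq_zero fun i _ => ?_
  rw [map_smul, LinearMap.smul_apply, show g (Pi.single i 1) x = 0 from congrFun hx i, smul_zero]

/-- A saturated submodule of a finite free module over a regular ring of dimension at most two is projective. -/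
theorem projective_of_saturated [IsRegularRing R] (hdim : ringKrullDim R ≤ 2) {k : ℕ} (N : Submodule R (Fin k → R))
    (hsat : ∀ a ∈ nonZeroDivisors R, ∀ x, a • x ∈ N → x ∈ N) : Module.Projective R N := by
  haveI : IsReduced R := Groth.Agent.HopfFF.isReduced_of_isRegularRing R
  have htf : ∀ a ∈ nonZeroDivisors R, IsSMulRegular ((Fin k → R) ⧸ N) a := fun a ha => by
    refine IsSMulRegular.of_right_eq_zero_of_smul fun x hx => ?_
    obtain ⟨x, rfl⟩ := Submodule.mkQ_surjective N x
    rw [← map_smul, Submodule.mkQ_apply, Submodule.Quotient.mk_eq_zero] at hx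
    exact (Submodule.Quotient.mk_eq_zero N).2 (hsat a ha x hx)
  obtain ⟨m, ι, hι⟩ := exists_injective_free _ htf
  have h3 : ∀ M : ModuleCat.{u} R, HasProjectiveDimensionLT M 3 := fun M =>
    Groth.Agent.TwoTermLib.GlDim.hasProjectiveDimensionLT_of_regular
      (fun p => (isRegularRing_iff (R := R)).1 inferInstance p.asIdeal) 2 hdim M
  have hK : CommAlgDim.PDLT R ((Fin m → R) ⧸ LinearMap.range ι) 3 := h3 _
  rw [CommAlgDim.pdlt_ker_iff (LinearMap.range ι).mkQ (Submodule.mkQ_surjective _) 1, Submodule.ker_mkQ] at hK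
  have hQ : CommAlgDim.PDLT R ((Fin k → R) ⧸ N) 2 := hK.of_equiv (LinearEquiv.ofInjective ι hι).symm
  rw [CommAlgDim.pdlt_ker_iff N.mkQ (Submodule.mkQ_surjective _) 0, Submodule.ker_mkQ] at hQ
  exact CommAlgDim.pdlt_one_iff.1 hQ

/-- The saturation of a finitely generated submodule of a projective module is finite projective. -/
theorem saturation_projective [IsRegularRing R] (hdim : ringKrullDim R ≤ 2) {X : Type u} [AddCommGroup X] [Module R X]
    [Module.Projective R X] (V2 V : Submodule R X) (hfg : V2.FG)
    (hV : ∀ x, x ∈ V ↔ ∃ a ∈ nonZeroDivisors R, a • x ∈ V2) : Module.Finite R V ∧ Module.Projective R V := by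
  classical
  obtain ⟨s, hs⟩ := Module.projective_def'.1 (inferInstance : Module.Projective R X)
  obtain ⟨gens, hgens⟩ := hfg
  let t : Finset X := gens.biUnion fun g => (s g).support
  have hsupp2 : ∀ v ∈ V2, ∀ j ∉ t, s v j = 0 := by
    intro v hv j hj
    rw [← hgens] at hv
    induction hv using Submodule.span_induction with
    | mem g hg => exact Finsupp.notMem_support_iff.1 fun h => hj (Finset.mem_biUnion.2 ⟨g, hg, h⟩)
    | zero => simp
    | add u v _ _ h1 h2 => simp [h1, h2]
    | smul c u _ h => simp [h]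
  have hsupp : ∀ x ∈ V, ∀ j ∉ t, s x j = 0 := by
    intro x hx j hj
    obtain ⟨a, ha, hax⟩ := (hV x).1 hx
    have h1 := hsupp2 _ hax j hj
    rw [map_smul, Finsupp.smul_apply, smul_eq_mul, mul_comm] at h1
    exact (mem_nonZeroDivisors_iff_right.1 ha) _ h1
  let k := t.card
  let et := t.equivFin
  let ψ₀ : X →ₗ[R] (Fin k → R) := LinearMap.pi fun i => Finsupp.lapply (et.symm i : X) ∘ₗ s
  let ψ : V →ₗ[R] (Fin k → R) := ψ₀ ∘ₗ V.subtype
  have hψ : Function.Injective ψ := by
    refine (injective_iff_map_eq_zero _).2 fun x hx => Subtype.ext ?_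
    have h0 : s (x : X) = 0 := Finsupp.ext fun j => by
      by_cases hj : j ∈ t
      · have h1 := congrFun hx (et ⟨j, hj⟩)
        simp only [ψ, ψ₀, LinearMap.comp_apply, LinearMap.pi_apply, Finsupp.lapply_apply, Equiv.symm_apply_apply] at h1
        exact h1
      · exact hsupp _ x.2 j hj
    have := LinearMap.congr_fun hs (x : X)
    rw [LinearMap.comp_apply, h0, map_zero] at this
    exact this.symm
  haveI : IsNoetherianRing R := inferInstance
  haveI := projective_of_saturated hdim (LinearMap.range ψ) fun a ha y hy => by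
    obtain ⟨v, hv⟩ := hy
    let y' : X →₀ R := ∑ i, Finsupp.single (et.symm i : X) (y i)
    have hy' : ∀ i, y' (et.symm i : X) = y i := fun i => by
      simp only [y', Finsupp.finsetSum_apply]
      rw [Finset.sum_eq_single i (fun j _ hj => Finsupp.single_eq_of_ne fun h => hj (et.symm.injective (Subtype.ext h.symm)))
        (by simp), Finsupp.single_eq_same]
    have hay : a • y' = s (v : X) := Finsupp.ext fun j => by
      by_cases hj : j ∈ t
      · obtain ⟨i, hi⟩ := et.symm.surjective ⟨j, hj⟩
        have hj' : j = (et.symm i : X) := by rw [hi]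
        rw [hj', Finsupp.smul_apply, hy']
        exact (congrFun hv i).symm
      · have : y' j = 0 := by
          simp only [y', Finsupp.finsetSum_apply]
          exact Finset.sum_eq_zero fun i _ => Finsupp.single_eq_of_ne fun h => hj (h ▸ (et.symm i).2)
        rw [Finsupp.smul_apply, this, smul_zero, hsupp _ v.2 j hj]
    let x := Finsupp.linearCombination R id y'
    have hax : a • x = (v : X) := by
      rw [← map_smul, hay]
      exact LinearMap.congr_fun hs (v : X)
    have hxV : x ∈ V := by
      obtain ⟨b, hb, hbv⟩ := (hV _).1 v.2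
      exact (hV x).2 ⟨b * a, mul_mem hb ha, by rw [mul_smul, hax]; exact hbv⟩
    refine ⟨⟨x, hxV⟩, funext fun i => ?_⟩
    refine (mul_cancel_left_mem_nonZeroDivisors ha).1 ?_
    have h1 := congrFun hv i
    simp only [ψ, ψ₀, LinearMap.comp_apply, LinearMap.pi_apply, Finsupp.lapply_apply, Submodule.coe_subtype] at h1 ⊢
    rw [← hax, map_smul, Finsupp.smul_apply, smul_eq_mul] at h1
    exact h1
  exact ⟨Module.Finite.equiv (LinearEquiv.ofInjective ψ hψ).symm, .of_equiv (LinearEquiv.ofInjective ψ hψ).symm⟩

end CosubLib
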